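import Groth.Agent.Lib.DeltaZ.Basic
import Mathlib.RingTheory.KrullDimension.NonZeroDivisors
import Mathlib.Topology.KrullDimension

/-!
The dimension of a closed irreducible subset through the codimensions of its points, and the
comparison of `Algz.codimPt` with the dimension of `Cyc.LocQuot`.
-/

universe u

open CategoryTheory AlgebraicGeometry TopologicalSpace

namespace GrothLib.DimPt

attribute [local instance] specializationOrder

section Top

variable {T : Type u} [TopologicalSpace T] [T0Space T]

/-- The dimension of a closed subset is the length of chains of specializations in it. -/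
theorem dim_eq_krullDim [QuasiSober T] {Z : Set T} (hZ : IsClosed Z) :
    topologicalKrullDim Z = Order.krullDim Z := by
  haveI : QuasiSober Z := hZ.isClosedEmbedding_subtypeVal.quasiSober
  let e := irreducibleSetEquivPoints (α := Z)
  refine Order.krullDim_eq_of_orderIso { toEquiv := e.toEquiv, map_rel_iff' := fun {a b} => ?_ }
  exact Iff.trans (subtype_specializes_iff (x := e b) (y := e a)).symm e.map_rel_iff

/-- A chain of specializations below `η` is no longer than the codimension of its bottom. -/
theorem length_le_codimPt (p : LTSeries T) {η : T} (h : η ⤳ p.last) :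
    (p.length : ℕ∞) ≤ Algz.codimPt η p.head (h.trans (p.monotone (Fin.zero_le _))) := by
  let g : Fin (p.length + 1) → Set.Ici (Specialization.toEquiv p.head) := fun i =>
    ⟨Specialization.toEquiv (p i), Specialization.toEquiv_le_toEquiv.mpr (p.monotone (Fin.zero_le _))⟩
  have hg : StrictMono g := fun i j hij => by
    have h1 : p i < p j := p.strictMono hij
    refine lt_of_le_not_ge (Specialization.toEquiv_le_toEquiv.mpr h1.le) fun h2 => h1.not_ge ?_
    exact Specialization.toEquiv_le_toEquiv.mp h2
  exact Order.length_le_height (p := LTSeries.mk p.length g hg)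
    (Specialization.toEquiv_le_toEquiv.mpr h)

/-- The codimension of a point of a subset containing all specializations of `η` is at most its
dimension. -/
theorem codimPt_le_dim [QuasiSober T] {Z : Set T} (hZ : IsClosed Z) {η v : T} (hη : η ∈ Z)
    (h : η ⤳ v) : (Algz.codimPt η v h : WithBot ℕ∞) ≤ topologicalKrullDim Z := by
  rw [Algz.codimPt, Order.height_eq_krullDim_Iic, dim_eq_krullDim hZ]
  let φ : Set.Iic (⟨Specialization.toEquiv η, Specialization.toEquiv_le_toEquiv.mpr h⟩ :
      Set.Ici (Specialization.toEquiv v)) → Z := fun a =>
    ⟨Specialization.ofEquiv a.1.1, (show η ⤳ Specialization.ofEquiv a.1.1 from a.2).mem_closed hZ hη⟩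
  refine Order.krullDim_le_of_strictMono φ fun a b hab => ?_
  refine lt_of_le_not_ge ?_ fun hle => hab.not_ge ?_
  · exact hab.le
  · exact hle

/-- The dimension of a closed irreducible subset is bounded by the codimensions of its points. -/
theorem dim_le_of_codimPt_le [QuasiSober T] {Z : Set T} (hZ : IsClosed Z) {η : T}
    (hη : IsGenericPoint η Z) {N : WithBot ℕ∞}
    (hN : ∀ v (hv : v ∈ Z), (Algz.codimPt η v (hη.specializes hv) : WithBot ℕ∞) ≤ N) :
    topologicalKrullDim Z ≤ N := by
  rw [dim_eq_krullDim hZ]
  refine iSup_le fun p => ?_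
  let q : LTSeries T := p.map Subtype.val (Subtype.strictMono_coe _)
  have h1 := length_le_codimPt q (η := η) (hη.specializes p.last.2)
  exact le_trans (WithBot.coe_le_coe.2 h1) (hN _ p.head.2)

/-- The dimension of a sober space is at most a bound on the dimensions of its components. -/
theorem dim_le_of_components [QuasiSober T] {N : WithBot ℕ∞}
    (hN : ∀ C ∈ irreducibleComponents T, topologicalKrullDim C ≤ N) : topologicalKrullDim T ≤ N := by
  rw [topologicalKrullDim, Order.krullDim_eq_of_orderIso (irreducibleSetEquivPoints (α := T))]
  refine iSup_le fun p => ?_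
  obtain ⟨C, hC, hsub⟩ := exists_mem_irreducibleComponents_subset_of_isIrreducible _
    (isIrreducible_singleton (x := p.last))
  have hcl := isClosed_of_mem_irreducibleComponents C hC
  have hη : IsGenericPoint hC.1.genericPoint C := hC.1.isGenericPoint_genericPoint hcl
  exact le_trans (WithBot.coe_le_coe.2 (length_le_codimPt p (hη.specializes (hsub rfl))))
    (le_trans (codimPt_le_dim hcl hη.mem _) (hN C hC))

end Top

variable {Y : Scheme.{u}}

/-- The dimension of the local ring of the closure of `w` at `v` is the codimension of `v` in it. -/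
theorem ringKrullDim_locQuot {w v : Y} (h : w ⤳ v) :
    ringKrullDim (Cyc.LocQuot v w h) = (Algz.codimPt w v h : WithBot ℕ∞) := by
  let P : PrimeSpectrum (Y.presheaf.stalk v) :=
    ⟨RingHom.ker (Cyc.specMap v w h), RingHom.ker_isPrime _⟩
  have hP : Y.fromSpecStalk v P = w := by
    have hP' : P = Spec.map (Y.presheaf.stalkSpecializes h) (IsLocalRing.closedPoint (Y.presheaf.stalk w)) := by
      apply PrimeSpectrum.ext
      ext r
      show IsLocalRing.residue (Y.presheaf.stalk w) ((Y.presheaf.stalkSpecializes h).hom r) = 0 ↔ _
      rw [IsLocalRing.residue_eq_zero_iff]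
      rfl
    rw [hP']
    exact (congrArg (fun f => f.base (IsLocalRing.closedPoint (Y.presheaf.stalk w)))
      (Scheme.SpecMap_stalkSpecializes_fromSpecStalk h)).trans Scheme.fromSpecStalk_closedPoint
  rw [DeltaZ.codimPt_eq_coheight_stalk h P hP, Order.coheight_eq_krullDim_Ici,
    show ringKrullDim (Cyc.LocQuot v w h) = _ from ringKrullDim_quotient (RingHom.ker (Cyc.specMap v w h))]
  refine Order.krullDim_eq_of_orderIso (OrderIso.setCongr _ _ ?_)
  ext Q
  exact PrimeSpectrum.mem_zeroLocus Q _

end GrothLib.DimPt
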